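import Groth.Prelude.Def_AGF
import Groth.Prelude.Def_CoactBr
import Groth.Prelude.Def_GLin5
import Groth.Agent.Lib.Tori.BaseChange
import Groth.Agent.Lib.RedPts.Gm

/-!
# Matrix-valued points of `GL_m` and of its base changes; diagonalisable groups over affine bases
-/

set_option autoImplicit false
universe u

open CategoryTheory MonoidalCategory CartesianMonoidalCategory MonObj GrpObj AlgebraicGeometry
open Groth.Agent.Lib.RedPts CoordGrp TensorProduct

namespace Groth.Agent.Lib.DiagGL

attribute [local instance] Points.baseAlgebra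

noncomputable section

theorem isMonHom_of_mul {S : Scheme.{u}} {G H : Over S} [MonObj G] [MonObj H] (ρ : G ⟶ H)
    (h1 : (1 : 𝟙_ (Over S) ⟶ G) ≫ ρ = 1)
    (h : ∀ (T : Over S) (a b : T ⟶ G), (a * b) ≫ ρ = (a ≫ ρ) * (b ≫ ρ)) : IsMonHom ρ where
  one_hom := by simpa [Hom.one_def, toUnit_unit] using h1
  mul_hom := by
    have h1 := h (G ⊗ G) (fst G G) (snd G G)
    rw [Hom.mul_def, lift_fst_snd, Category.id_comp] at h1
    rw [h1, Hom.mul_def]
    congr 1

section GLSec

variable {k : Type u} [CommRing k] {m : ℕ}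

/-- The general linear group over `Spec k`. -/
abbrev GLv (k : Type u) [CommRing k] (m : ℕ) : Over (Spec (CommRingCat.of k)) := CoactBr.sp k (GLn m k)

/-- The matrix of a point of `GL_m`. -/
def glMat {X : Over (Spec (CommRingCat.of k))} (g : X ⟶ GLv k m) :
    Matrix (Fin m) (Fin m) Γ(X.left, ⊤) :=
  Matrix.of fun i j => Points.algHomOf g (GLn.X i j)

theorem glMat_mul {X : Over (Spec (CommRingCat.of k))} (g h : X ⟶ GLv k m) :
    glMat (g * h) = glMat g * glMat h := by
  ext i j
  simp [glMat, Points.algHomOf_mul, GLn.comul_X, Matrix.mul_apply]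

theorem glMat_one {X : Over (Spec (CommRingCat.of k))} : glMat (1 : X ⟶ GLv k m) = 1 := by
  ext i j
  simp [glMat, Points.algHomOf_one, GLn.counit_X, Matrix.one_apply]

theorem glMat_comp {X X' : Over (Spec (CommRingCat.of k))} (h : X' ⟶ X) (g : X ⟶ GLv k m) :
    glMat (h ≫ g) = (glMat g).map h.left.appTop.hom := by
  ext i j
  exact Points.ringHomOf_comp h.left g.left _

theorem glMat_injective {X : Over (Spec (CommRingCat.of k))} :
    Function.Injective (glMat : (X ⟶ GLv k m) → _) := fun g g' h => by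
  refine Points.algHomOf_injective (GLn.algHom_ext (fun i j => congrFun (congrFun h i) j) ?_)
  set f := Points.algHomOf g
  set f' := Points.algHomOf g'
  have e : f GLn.det = f' GLn.det := by
    rw [GLn.det_eq, AlgHom.map_det, AlgHom.map_det]
    congr 1
  calc f GLn.Dinv = f GLn.Dinv * (f' GLn.det * f' GLn.Dinv) := by
        rw [← map_mul f', GLn.det_mul_Dinv, map_one, _root_.mul_one]
    _ = f GLn.Dinv * f GLn.det * f' GLn.Dinv := by rw [e, _root_.mul_assoc]
    _ = f' GLn.Dinv := by rw [← map_mul f, mul_comm GLn.Dinv, GLn.det_mul_Dinv, map_one, _root_.one_mul]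

/-- The point of `GL_m` with a given invertible matrix. -/
theorem exists_glPt {X : Over (Spec (CommRingCat.of k))} (M : Matrix (Fin m) (Fin m) Γ(X.left, ⊤))
    (h : IsUnit M.det) : ∃ g : X ⟶ GLv k m, glMat g = M := by
  obtain ⟨d, hd⟩ := h.exists_right_inv
  refine ⟨Points.pointOf (GLn.pt m k M d hd), ?_⟩
  ext i j
  simp [glMat]

variable {K : Type u} [CommRing K] (f : Spec (CommRingCat.of K) ⟶ Spec (CommRingCat.of k))

/-- The matrix of a point of the base change of `GL_m`. -/
def bcMat {X : Over (Spec (CommRingCat.of K))} (g : X ⟶ Red.bc f (GLv k m)) :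
    Matrix (Fin m) (Fin m) Γ(X.left, ⊤) :=
  glMat (k := k) (X := (Over.map f).obj X) (BC.down f g)

variable {f}

theorem bcMat_mul {X : Over (Spec (CommRingCat.of K))} (g h : X ⟶ Red.bc f (GLv k m)) :
    bcMat f (g * h) = bcMat f g * bcMat f h := by
  rw [bcMat, BC.down_mul, glMat_mul]; rfl

theorem bcMat_one {X : Over (Spec (CommRingCat.of K))} :
    bcMat f (1 : X ⟶ Red.bc f (GLv k m)) = 1 := by
  rw [bcMat, BC.down_one, glMat_one]

theorem bcMat_comp {X X' : Over (Spec (CommRingCat.of K))} (h : X' ⟶ X)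
    (g : X ⟶ Red.bc f (GLv k m)) : bcMat f (h ≫ g) = (bcMat f g).map h.left.appTop.hom := by
  rw [bcMat, BC.down_comp, glMat_comp]; rfl

theorem bcMat_injective {X : Over (Spec (CommRingCat.of K))} :
    Function.Injective (bcMat f : (X ⟶ Red.bc f (GLv k m)) → _) :=
  glMat_injective.comp BC.down_injective

theorem exists_bcPt {X : Over (Spec (CommRingCat.of K))} (M : Matrix (Fin m) (Fin m) Γ(X.left, ⊤))
    (h : IsUnit M.det) : ∃ g : X ⟶ Red.bc f (GLv k m), bcMat f g = M := by
  obtain ⟨g, hg⟩ := exists_glPt (k := k) (X := (Over.map f).obj X) M h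
  exact ⟨BC.up f g, by rw [bcMat, BC.down_up]; exact hg⟩

end GLSec

section Diag

variable {k K : Type u} [CommRing k] [CommRing K] {M : Type} [AddCommGroup M]

/-- The identity character of a diagonalisable group. -/
def diagChi {X : Over (Spec (CommRingCat.of K))} (x : X ⟶ Red.diag K M) :
    Multiplicative M →* Γ(X.left, ⊤) where
  toFun a := Affine.diagFn x a.toAdd
  map_one' := Affine.diagFn_zero x
  map_mul' a b := Affine.diagFn_add x a.toAdd b.toAdd

theorem diagFn_naturality {X : Over (Spec (CommRingCat.of K))} {Y : Over (Spec (CommRingCat.of K))}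
    (h : Y ⟶ Red.diag K M) (x : X ⟶ Y) (a : M) :
    x.left.appTop (Affine.diagFn h a) = Affine.diagFn (x ≫ h) a :=
  (Affine.diagFn_comp x h a).symm

/-- The identity character of `D_S(M)`. -/
def dsChi {S : Scheme.{u}} {X : Over S} (x : X ⟶ Red.DS S M) :
    Multiplicative M →* Γ(X.left, ⊤) where
  toFun a := Gm.dsFn x a.toAdd
  map_one' := Gm.dsFn_zero x
  map_mul' a b := Gm.dsFn_add x a.toAdd b.toAdd

/-- `D_{Spec K}(M) ≅ Spec K[M]`. -/
def dsDiag (K : Type u) [CommRing K] (M : Type) [AddCommGroup M] :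
    Red.DS (Spec (CommRingCat.of K)) M ≅ Red.diag K M where
  hom := Affine.diagPt (dsChi (𝟙 _))
  inv := Gm.dsPt (diagChi (𝟙 _))
  hom_inv_id := Gm.dsFn_ext fun a => by
    rw [Gm.dsFn_comp, Gm.dsFn_dsPt]
    refine (diagFn_naturality (𝟙 (Red.diag K M)) _ a).trans ?_
    rw [Category.comp_id, Affine.diagFn_diagPt]
    rfl
  inv_hom_id := Affine.diagFn_ext fun a => by
    rw [Affine.diagFn_comp, Affine.diagFn_diagPt]
    refine (Gm.dsFn_comp _ (𝟙 (Red.DS (Spec (CommRingCat.of K)) M)) a).symm.trans ?_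
    rw [Category.comp_id, Gm.dsFn_dsPt]
    rfl

theorem diagFn_dsDiag {X : Over (Spec (CommRingCat.of K))}
    (x : X ⟶ Red.DS (Spec (CommRingCat.of K)) M) (a : M) :
    Affine.diagFn (x ≫ (dsDiag K M).hom) a = Gm.dsFn x a := by
  rw [Affine.diagFn_comp, dsDiag, Affine.diagFn_diagPt]
  exact (Gm.dsFn_comp x (𝟙 _) a).symm.trans (by rw [Category.comp_id])

instance isMonHom_dsDiag : IsMonHom (dsDiag K M).hom :=
  isMonHom_of_mul _ (Affine.diagFn_ext fun c => by rw [diagFn_dsDiag, Gm.dsFn_one, Affine.diagFn_one])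
    fun T a b => Affine.diagFn_ext fun c => by
    simp only [diagFn_dsDiag, Gm.dsFn_mul, Affine.diagFn_mul]

variable (f : Spec (CommRingCat.of K) ⟶ Spec (CommRingCat.of k))

/-- The values of a point of the base change of `Spec k[M]`. -/
def bcFn {X : Over (Spec (CommRingCat.of K))} (x : X ⟶ Red.bc f (Red.diag k M)) (a : M) :
    Γ(X.left, ⊤) :=
  Affine.diagFn (R := k) (W := (Over.map f).obj X) (BC.down f x) a

theorem bcFn_comp {X X' : Over (Spec (CommRingCat.of K))} (h : X' ⟶ X)
    (x : X ⟶ Red.bc f (Red.diag k M)) (a : M) : bcFn f (h ≫ x) a = h.left.appTop (bcFn f x a) := by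
  rw [bcFn, BC.down_comp]
  exact Affine.diagFn_comp _ _ _

theorem bcFn_mul {X : Over (Spec (CommRingCat.of K))} (x y : X ⟶ Red.bc f (Red.diag k M)) (a : M) :
    bcFn f (x * y) a = bcFn f x a * bcFn f y a := by
  rw [bcFn, BC.down_mul]
  exact Affine.diagFn_mul _ _ _

theorem bcFn_ext {X : Over (Spec (CommRingCat.of K))} {x y : X ⟶ Red.bc f (Red.diag k M)}
    (h : ∀ a, bcFn f x a = bcFn f y a) : x = y :=
  BC.down_injective (Affine.diagFn_ext h)

/-- The point of the base change with prescribed values. -/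
def bcPt {X : Over (Spec (CommRingCat.of K))} (χ : Multiplicative M →* Γ(X.left, ⊤)) :
    X ⟶ Red.bc f (Red.diag k M) :=
  BC.up f (Affine.diagPt (W := (Over.map f).obj X) χ)

theorem bcFn_bcPt {X : Over (Spec (CommRingCat.of K))} (χ : Multiplicative M →* Γ(X.left, ⊤)) (a : M) :
    bcFn f (bcPt f χ) a = χ (Multiplicative.ofAdd a) := by
  rw [bcFn, bcPt, BC.down_up]
  exact Affine.diagFn_diagPt _ _

/-- The identity character of the base change. -/
def bcChi {X : Over (Spec (CommRingCat.of K))} (x : X ⟶ Red.bc f (Red.diag k M)) :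
    Multiplicative M →* Γ(X.left, ⊤) where
  toFun a := bcFn f x a.toAdd
  map_one' := Affine.diagFn_zero _
  map_mul' a b := Affine.diagFn_add _ a.toAdd b.toAdd

/-- Diagonalisable groups commute with base change. -/
def diagBC (M : Type) [AddCommGroup M] : Red.diag K M ≅ Red.bc f (Red.diag k M) where
  hom := bcPt f (diagChi (𝟙 _))
  inv := Affine.diagPt (bcChi f (𝟙 _))
  hom_inv_id := Affine.diagFn_ext fun a => by
    rw [Affine.diagFn_comp, Affine.diagFn_diagPt]
    refine (bcFn_comp f _ (𝟙 (Red.bc f (Red.diag k M))) a).symm.trans ?_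
    rw [Category.comp_id, bcFn_bcPt]
    rfl
  inv_hom_id := bcFn_ext f fun a => by
    rw [bcFn_comp, bcFn_bcPt]
    refine (diagFn_naturality (𝟙 (Red.diag K M)) _ a).trans ?_
    rw [Category.comp_id, Affine.diagFn_diagPt]
    rfl

theorem bcFn_diagBC {X : Over (Spec (CommRingCat.of K))} (x : X ⟶ Red.diag K M) (a : M) :
    bcFn f (x ≫ (diagBC f M).hom) a = Affine.diagFn x a := by
  rw [bcFn_comp, diagBC, bcFn_bcPt]
  exact (diagFn_naturality (𝟙 (Red.diag K M)) x a).trans (by rw [Category.comp_id])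

theorem bcFn_one {X : Over (Spec (CommRingCat.of K))} (a : M) :
    bcFn f (1 : X ⟶ Red.bc f (Red.diag k M)) a = 1 := by
  rw [bcFn, BC.down_one]
  exact Affine.diagFn_one _

instance isMonHom_diagBC : IsMonHom (diagBC f M).hom :=
  isMonHom_of_mul _ (bcFn_ext f fun c => by rw [bcFn_diagBC, bcFn_one, Affine.diagFn_one])
    fun T a b => bcFn_ext f fun c => by
    simp only [bcFn_diagBC, bcFn_mul, Affine.diagFn_mul]

end Diag

end

end Groth.Agent.Lib.DiagGL
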