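import Groth.Agent.Lib.DiagGL.Descent
import Mathlib.LinearAlgebra.Matrix.Permutation

/-!
# Conjugacy of finite diagonalisable subgroups of `GL_m` descends
-/

set_option autoImplicit false
universe u

open CategoryTheory MonoidalCategory CartesianMonoidalCategory MonObj GrpObj AlgebraicGeometry
open Groth.Agent.Lib.RedPts CoordGrp

namespace Groth.Agent.Lib.DiagGL

attribute [local instance] Points.baseAlgebra

noncomputable section

variable {k K : Type u} [Field k] [Field K] {M : Type} [AddCommGroup M] {m : ℕ}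

/-- The constant matrix on `X`. -/
def cst (X : Over (Spec (CommRingCat.of K))) (B : Matrix (Fin m) (Fin m) K) :
    Matrix (Fin m) (Fin m) Γ(X.left, ⊤) :=
  (Points.baseHom X).mapMatrix B

theorem cst_mul (X : Over (Spec (CommRingCat.of K))) (A B : Matrix (Fin m) (Fin m) K) :
    cst X (A * B) = cst X A * cst X B :=
  map_mul _ _ _

theorem cst_one (X : Over (Spec (CommRingCat.of K))) : cst X (1 : Matrix (Fin m) (Fin m) K) = 1 :=
  map_one _

theorem cst_apply (X : Over (Spec (CommRingCat.of K))) (B : Matrix (Fin m) (Fin m) K) (a b : Fin m) :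
    cst X B a b = Points.baseHom X (B a b) := rfl

/-- The diagonal form of a diagonalisable subgroup. -/
theorem exists_form [Finite M] (σ : Over (Spec (CommRingCat.of k))) [GrpObj σ] (i : σ ⟶ GLv k m)
    [IsMonHom i] (hσ : Red.IsSplitTorusWith M σ) :
    ∃ (ε : σ ≅ Red.diag k M) (_ : IsMonHom ε.hom) (B : (Matrix (Fin m) (Fin m) k)ˣ) (e : Fin m → M),
      ∀ (X : Over (Spec (CommRingCat.of k))) (x : X ⟶ σ),
        cst X (B : Matrix (Fin m) (Fin m) k) * glMat (x ≫ i) =
          Matrix.diagonal (fun a => Affine.diagFn (x ≫ ε.hom) (e a)) * cst X (B : Matrix (Fin m) (Fin m) k) := by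
  classical
  have : Fintype M := Fintype.ofFinite M
  obtain ⟨E⟩ := hσ
  let ε : σ ≅ Red.diag k M := Tori.BaseChange.overIso E ≪≫ dsDiag k M
  have hε : IsMonHom ε.hom :=
    inferInstanceAs (IsMonHom ((Tori.BaseChange.overIso E).hom ≫ (dsDiag k M).hom))
  have : IsMonHom ε.inv := inferInstance
  let j := ε.inv ≫ i
  have : IsMonHom j := inferInstanceAs (IsMonHom (ε.inv ≫ i))
  obtain ⟨P, hP, hPsum, hkey⟩ := exists_projectors_of_natural (K := k) (M := M)
    (fun X x => glMat (x ≫ j))
    (fun X x => by rw [Category.id_comp, glMat_comp])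
    (fun X a b => by rw [MonObj.mul_comp a b j, glMat_mul])
    (fun X => by rw [MonObj.one_comp j, glMat_one])
  obtain ⟨B, e, hB, hBP⟩ := exists_diagonalise P hP hPsum
  refine ⟨ε, hε, hB.unit, e, fun X x => ?_⟩
  rw [IsUnit.unit_spec, show x ≫ i = (x ≫ ε.hom) ≫ j by simp [j], hkey X (x ≫ ε.hom), Finset.mul_sum]
  have hterm : ∀ c, cst X B * (Affine.diagFn (x ≫ ε.hom) c • (P c).map (Points.baseHom X)) =
      Matrix.diagonal (fun a => if e a = c then Affine.diagFn (x ≫ ε.hom) c else 0) * cst X B := fun c => by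
    rw [Matrix.mul_smul, show (P c).map (Points.baseHom X) = cst X (P c) from rfl, ← cst_mul, hBP c,
      cst_mul, ← smul_mul_assoc]
    congr 1
    ext a b
    by_cases h : a = b
    · subst h; simp [cst_apply, apply_ite (Points.baseHom X)]
    · simp [cst_apply, Matrix.diagonal_apply_ne _ h]
  rw [Finset.sum_congr rfl fun c _ => hterm c, ← Finset.sum_mul]
  congr 1
  ext a b
  rw [Matrix.sum_apply]
  by_cases h : a = b
  · subst h; simp [Finset.sum_ite_eq]
  · simp [Matrix.diagonal_apply_ne _ h]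

theorem diagFn_id_injective :
    Function.Injective (fun a : M => Affine.diagFn (𝟙 (Red.diag K M)) a) := fun a b h => by
  have h' := algHomOf_id_bijective.1 h
  by_contra hab
  have h2 := congrArg (fun p => p.coeff (Multiplicative.ofAdd a)) h'
  have hne : Multiplicative.ofAdd b ≠ Multiplicative.ofAdd a := fun e => hab (Multiplicative.ofAdd.injective e).symm
  simp [MonoidAlgebra.coeff_single, hne] at h2

/-- Endomorphisms of a finite diagonalisable group come from endomorphisms of its character group. -/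
theorem exists_charMap [Finite M] (h : Red.diag K M ⟶ Red.diag K M)
    (hmul : ∀ (X : Over (Spec (CommRingCat.of K))) (a b : X ⟶ Red.diag K M),
      (a * b) ≫ h = (a ≫ h) * (b ≫ h))
    (hone : ∀ X : Over (Spec (CommRingCat.of K)), (1 : X ⟶ Red.diag K M) ≫ h = 1) :
    ∃ α : M →+ M, ∀ (X : Over (Spec (CommRingCat.of K))) (x : X ⟶ Red.diag K M) (a : M),
      Affine.diagFn (x ≫ h) a = Affine.diagFn x (α a) := by
  classical
  have : Fintype M := Fintype.ofFinite M
  have key : ∀ a : M, ∃ c : M, ∀ (X : Over (Spec (CommRingCat.of K))) (x : X ⟶ Red.diag K M),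
      Affine.diagFn (x ≫ h) a = Affine.diagFn x c := by
    intro a
    obtain ⟨P, hP, hPsum, hkey⟩ := exists_projectors_of_natural (K := K) (M := M) (m := 1)
      (fun X x => Matrix.diagonal fun _ => Affine.diagFn (x ≫ h) a)
      (fun X x => by
        rw [Matrix.diagonal_map (map_zero _), Category.id_comp, Affine.diagFn_comp])
      (fun X y z => by rw [hmul, Matrix.diagonal_mul_diagonal]; simp only [Affine.diagFn_mul])
      (fun X => by simp only [hone, Affine.diagFn_one, Matrix.diagonal_one])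
    have hs : ∀ g c, P g 0 0 * P c 0 0 = if g = c then P g 0 0 else 0 := fun g c => by
      have := congrFun (congrFun (hP g c) 0) 0
      rw [Matrix.mul_apply, Fin.sum_univ_one] at this
      rw [this]
      split_ifs <;> simp
    obtain ⟨c, hc⟩ : ∃ c, P c 0 0 ≠ 0 := by
      by_contra hc
      push Not at hc
      have := congrFun (congrFun hPsum 0) 0
      simp [Matrix.sum_apply, hc] at this
    have hc1 : P c 0 0 = 1 := by
      have := hs c c
      rw [if_pos rfl] at this
      exact mul_right_cancel₀ hc (by rw [this, _root_.one_mul])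
    refine ⟨c, fun X x => ?_⟩
    have := congrFun (congrFun (hkey X x) 0) 0
    rw [Matrix.diagonal_apply_eq, Matrix.sum_apply, Finset.sum_eq_single c] at this
    · simpa [hc1] using this
    · intro g _ hg
      have := hs g c
      rw [if_neg hg, hc1, _root_.mul_one] at this
      simp [this]
    · simp
  choose α hα using key
  refine ⟨AddMonoidHom.mk' α fun a b => diagFn_id_injective (K := K) ?_, fun X x a => hα a X x⟩
  show Affine.diagFn (𝟙 _) (α (a + b)) = Affine.diagFn (𝟙 _) (α a + α b)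
  rw [← hα, Affine.diagFn_add, Affine.diagFn_add, hα, hα]

variable [Algebra k K]

local notation "fK" => Spec.map (CommRingCat.ofHom (algebraMap k K))

theorem baseHom_map (X : Over (Spec (CommRingCat.of K))) (r : k) :
    Points.baseHom ((Over.map fK).obj X) r = Points.baseHom X (algebraMap k K r) := by
  simp only [Points.baseHom]
  rw [show ((Over.map fK).obj X).hom = X.hom ≫ fK from rfl, Scheme.Hom.comp_appTop,
    ← Scheme.ΓSpecIso_inv_naturality_assoc]
  rfl

/-- The diagonal form after base change. -/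
theorem bc_form {σ : Over (Spec (CommRingCat.of k))} (i : σ ⟶ GLv k m) (ε : σ ≅ Red.diag k M)
    (B : Matrix (Fin m) (Fin m) k) (e : Fin m → M)
    (hB : ∀ (X : Over (Spec (CommRingCat.of k))) (x : X ⟶ σ),
      cst X B * glMat (x ≫ i) =
        Matrix.diagonal (fun a => Affine.diagFn (x ≫ ε.hom) (e a)) * cst X B)
    (X : Over (Spec (CommRingCat.of K))) (x : X ⟶ Red.bc fK σ) :
    cst X (B.map (algebraMap k K)) * bcMat fK (x ≫ (Over.pullback fK).map i) =
      Matrix.diagonal (fun a => bcFn fK (x ≫ (Over.pullback fK).map ε.hom) (e a)) *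
        cst X (B.map (algebraMap k K)) := by
  have hc : cst ((Over.map fK).obj X) B = cst X (B.map (algebraMap k K)) := by
    ext a b
    exact baseHom_map X (B a b)
  have h1 : bcMat fK (x ≫ (Over.pullback fK).map i) = glMat (BC.down fK x ≫ i) := by
    rw [bcMat, BC.down_map]
  have h2 : ∀ a, bcFn fK (x ≫ (Over.pullback fK).map ε.hom) a =
      Affine.diagFn (BC.down fK x ≫ ε.hom) a := fun a => by
    rw [bcFn, BC.down_map]
  rw [h1]
  simp only [h2]
  have h3 := hB ((Over.map fK).obj X) (BC.down fK x)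
  rw [hc] at h3
  exact h3

theorem baseHom_unit_surjective :
    Function.Surjective (Points.baseHom (𝟙_ (Over (Spec (CommRingCat.of K))))) := by
  have h : (Scheme.ΓSpecIso (CommRingCat.of K)).inv ≫ (𝟙_ (Over (Spec (CommRingCat.of K)))).hom.appTop =
      (Scheme.ΓSpecIso (CommRingCat.of K)).inv := Category.comp_id _
  intro y
  obtain ⟨a, ha⟩ := (Scheme.ΓSpecIso (CommRingCat.of K)).symm.commRingCatIsoToRingEquiv.surjective y
  exact ⟨a, by rw [Points.baseHom, h]; exact ha⟩

theorem cst_comp {X Y : Over (Spec (CommRingCat.of K))} (h : X ⟶ Y) (B : Matrix (Fin m) (Fin m) K) :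
    (cst Y B).map h.left.appTop.hom = cst X B := by
  ext a b
  exact baseHom_comp h (B a b)

theorem exists_conj [Finite M] (σ τ : Over (Spec (CommRingCat.of k))) [GrpObj σ] [GrpObj τ]
    (i : σ ⟶ GLv k m) (j : τ ⟶ GLv k m) [IsMonHom i] [IsMonHom j] [Mono j.left]
    (hσ : Red.IsSplitTorusWith M σ) (hτ : Red.IsSplitTorusWith M τ)
    (g : 𝟙_ (Over (Spec (CommRingCat.of K))) ⟶ Red.bc fK (GLv k m))
    (φ : Red.bc fK σ ≅ Red.bc fK τ)
    (hg : AGF.conjBy g ((Over.pullback fK).map i) = φ.hom ≫ (Over.pullback fK).map j) :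
    ∃ (g : 𝟙_ (Over (Spec (CommRingCat.of k))) ⟶ GLv k m) (φ : σ ≅ τ),
      AGF.conjBy g i = φ.hom ≫ j := by
  classical
  have : Fintype M := Fintype.ofFinite M
  obtain ⟨ε, hε, B, e, hB⟩ := exists_form σ i hσ
  obtain ⟨ε', hε', B', e', hB'⟩ := exists_form τ j hτ
  have : IsMonHom ε.inv := inferInstance
  have : IsMonHom ε'.inv := inferInstance
  let U : Red.diag K M ≅ Red.bc fK σ := diagBC fK M ≪≫ (Over.pullback fK).mapIso ε.symm
  let U' : Red.diag K M ≅ Red.bc fK τ := diagBC fK M ≪≫ (Over.pullback fK).mapIso ε'.symm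
  have : IsMonHom U.hom :=
    inferInstanceAs (IsMonHom ((diagBC fK M).hom ≫ (Over.pullback fK).map ε.inv))
  have : IsMonHom U'.hom :=
    inferInstanceAs (IsMonHom ((diagBC fK M).hom ≫ (Over.pullback fK).map ε'.inv))
  have : IsMonHom U'.inv := inferInstance
  have : Mono j := Over.mono_of_mono_left j
  -- `φ` respects the group laws
  have hφmul : ∀ (X : Over (Spec (CommRingCat.of K))) (a b : X ⟶ Red.bc fK σ),
      (a * b) ≫ φ.hom = (a ≫ φ.hom) * (b ≫ φ.hom) := fun X a b => by
    refine (cancel_mono ((Over.pullback fK).map j)).1 ?_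
    rw [MonObj.mul_comp (a ≫ φ.hom) (b ≫ φ.hom), Category.assoc, Category.assoc, Category.assoc, ← hg]
    simp only [AGF.conjBy, MonObj.comp_mul, GrpObj.comp_inv, MonObj.mul_comp, ← Category.assoc,
      comp_toUnit, _root_.mul_assoc, inv_mul_cancel_left]
  have hφone : ∀ X : Over (Spec (CommRingCat.of K)), (1 : X ⟶ Red.bc fK σ) ≫ φ.hom = 1 := fun X =>
    mul_left_cancel (a := (1 : X ⟶ Red.bc fK σ) ≫ φ.hom) (by rw [← hφmul, _root_.mul_one, _root_.mul_one])
  let ψ : Red.diag K M ≅ Red.diag K M := U ≪≫ φ ≪≫ U'.symm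
  have hψmul : ∀ (X : Over (Spec (CommRingCat.of K))) (a b : X ⟶ Red.diag K M),
      (a * b) ≫ ψ.hom = (a ≫ ψ.hom) * (b ≫ ψ.hom) := fun X a b => by
    simp only [ψ, Iso.trans_hom, Iso.symm_hom, ← Category.assoc]
    rw [MonObj.mul_comp a b U.hom, hφmul, MonObj.mul_comp]
  have hψone : ∀ X : Over (Spec (CommRingCat.of K)), (1 : X ⟶ Red.diag K M) ≫ ψ.hom = 1 := fun X => by
    simp only [ψ, Iso.trans_hom, Iso.symm_hom, ← Category.assoc]
    rw [MonObj.one_comp U.hom, hφone, MonObj.one_comp]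
  obtain ⟨α, hα⟩ := exists_charMap ψ.hom hψmul hψone
  have hψimul : ∀ (X : Over (Spec (CommRingCat.of K))) (a b : X ⟶ Red.diag K M),
      (a * b) ≫ ψ.inv = (a ≫ ψ.inv) * (b ≫ ψ.inv) := fun X a b => by
    refine (cancel_mono ψ.hom).1 ?_
    rw [hψmul]; simp
  have hψione : ∀ X : Over (Spec (CommRingCat.of K)), (1 : X ⟶ Red.diag K M) ≫ ψ.inv = 1 := fun X => by
    refine (cancel_mono ψ.hom).1 ?_
    rw [hψone]; simp
  obtain ⟨β, hβ⟩ := exists_charMap ψ.inv hψimul hψione
  let A : M ≃+ M :=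
    { α with
      invFun := β
      left_inv := fun a => diagFn_id_injective (K := K) (by
        show Affine.diagFn (𝟙 _) (β (α a)) = Affine.diagFn (𝟙 _) a
        rw [← hβ, ← hα]; simp)
      right_inv := fun a => diagFn_id_injective (K := K) (by
        show Affine.diagFn (𝟙 _) (α (β a)) = Affine.diagFn (𝟙 _) a
        rw [← hα, ← hβ]; simp) }
  -- compare the diagonal forms over `K`
  have hc : ∃ c : Matrix (Fin m) (Fin m) K, bcMat fK g = cst _ c := by
    choose c hc using fun a b => baseHom_unit_surjective (bcMat fK g a b)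
    exact ⟨Matrix.of c, by ext a b; exact (hc a b).symm⟩
  obtain ⟨c, hc⟩ := hc
  let T := Red.diag K M
  have hU : ∀ a, bcFn fK (U.hom ≫ (Over.pullback fK).map ε.hom) a = Affine.diagFn (𝟙 T) a := fun a => by
    rw [show U.hom ≫ (Over.pullback fK).map ε.hom = 𝟙 T ≫ (diagBC fK M).hom by
      simp [U, T, ← Functor.map_comp], bcFn_diagBC]
  have hV : ∀ a, bcFn fK ((U.hom ≫ φ.hom) ≫ (Over.pullback fK).map ε'.hom) a = Affine.diagFn (𝟙 T) (α a) := fun a => by
    rw [show (U.hom ≫ φ.hom) ≫ (Over.pullback fK).map ε'.hom = ψ.hom ≫ (diagBC fK M).hom by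
      simp [ψ, U'], bcFn_diagBC]
    exact (congrArg (fun y => Affine.diagFn y a) (Category.id_comp ψ.hom)).symm.trans (hα T (𝟙 T) a)
  set Bk := (B : Matrix (Fin m) (Fin m) k).map (algebraMap k K) with hBk
  set Bk' := (B' : Matrix (Fin m) (Fin m) k).map (algebraMap k K) with hBk'
  set Bki := ((B⁻¹ : (Matrix (Fin m) (Fin m) k)ˣ) : Matrix (Fin m) (Fin m) k).map (algebraMap k K) with hBki
  have hBinv : Bk * Bki = 1 ∧ Bki * Bk = 1 := by
    simp only [Bk, Bki, ← Matrix.map_mul, Units.mul_inv, Units.inv_mul,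
      Matrix.map_one _ (map_zero _) (map_one _), and_self]
  have h1 := bc_form i ε (B : Matrix (Fin m) (Fin m) k) e hB T U.hom
  have h2 := bc_form j ε' (B' : Matrix (Fin m) (Fin m) k) e' hB' T (U.hom ≫ φ.hom)
  simp only [hU] at h1
  simp only [hV] at h2
  rw [← hBk] at h1
  rw [← hBk', Category.assoc, ← hg] at h2
  have h3 : bcMat fK (U.hom ≫ AGF.conjBy g ((Over.pullback fK).map i)) * cst T c =
      cst T c * bcMat fK (U.hom ≫ (Over.pullback fK).map i) := by
    have hC : bcMat fK (toUnit T ≫ g) = cst T c := by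
      rw [bcMat_comp, hc, cst_comp]
    rw [← hC, ← bcMat_mul, ← bcMat_mul]
    congr 1
    simp only [AGF.conjBy, MonObj.comp_mul, GrpObj.comp_inv, ← Category.assoc, comp_toUnit]
    rw [inv_mul_cancel_right]
  set Z := Bk' * c * Bki with hZ
  have hrel : cst T Z * Matrix.diagonal (fun a => Affine.diagFn (𝟙 T) (e a)) =
      Matrix.diagonal (fun a => Affine.diagFn (𝟙 T) (α (e' a))) * cst T Z := by
    have e1 : Matrix.diagonal (fun a => Affine.diagFn (𝟙 T) (e a)) =
        cst T Bk * bcMat fK (U.hom ≫ (Over.pullback fK).map i) * cst T Bki := by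
      rw [h1, _root_.mul_assoc, ← cst_mul, hBinv.1, cst_one, _root_.mul_one]
    rw [hZ, cst_mul, cst_mul, e1]
    calc cst T Bk' * cst T c * cst T Bki *
          (cst T Bk * bcMat fK (U.hom ≫ (Over.pullback fK).map i) * cst T Bki)
        = cst T Bk' * (cst T c * bcMat fK (U.hom ≫ (Over.pullback fK).map i)) * cst T Bki := by
          simp only [_root_.mul_assoc]
          rw [← _root_.mul_assoc (cst T Bki) (cst T Bk), ← cst_mul, hBinv.2, cst_one, _root_.one_mul]
      _ = cst T Bk' * bcMat fK (U.hom ≫ AGF.conjBy g ((Over.pullback fK).map i)) * (cst T c * cst T Bki) := by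
          rw [← h3]; simp only [_root_.mul_assoc]
      _ = _ := by rw [h2]; simp only [_root_.mul_assoc]
  have hsupp : ∀ a b, Z a b ≠ 0 → e b = α (e' a) := fun a b hab => by
    have := congrFun (congrFun hrel a) b
    rw [Matrix.mul_diagonal, Matrix.diagonal_mul, cst_apply, mul_comm (Affine.diagFn _ _)] at this
    exact diagFn_id_injective (K := K)
      (((isUnit_iff_ne_zero.2 hab).map (Points.baseHom T)).mul_left_cancel this)
  have hdet : Z.det ≠ 0 := by
    have hcdet : IsUnit c.det := by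
      have hi : bcMat fK g * bcMat fK g⁻¹ = 1 := by rw [← bcMat_mul, mul_inv_cancel, bcMat_one]
      obtain ⟨d, hd⟩ : ∃ d : Matrix (Fin m) (Fin m) K, bcMat fK g⁻¹ = cst _ d := by
        choose d hd using fun a b => baseHom_unit_surjective (bcMat fK g⁻¹ a b)
        exact ⟨Matrix.of d, by ext a b; exact (hd a b).symm⟩
      rw [hc, hd, ← cst_mul, ← cst_one] at hi
      have hinj : Function.Injective (Points.baseHom (𝟙_ (Over (Spec (CommRingCat.of K))))) :=
        have : Nontrivial Γ((𝟙_ (Over (Spec (CommRingCat.of K)))).left, ⊤) :=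
          (Scheme.ΓSpecIso (CommRingCat.of K)).commRingCatIsoToRingEquiv.toEquiv.nontrivial
        RingHom.injective _
      exact (Matrix.isUnit_iff_isUnit_det c).1
        (IsUnit.of_mul_eq_one d (Matrix.map_injective hinj hi))
    have hBu : IsUnit Bk' := B'.isUnit.map (algebraMap k K).mapMatrix
    have hBiu : IsUnit Bki := (B⁻¹).isUnit.map (algebraMap k K).mapMatrix
    exact ((Matrix.isUnit_iff_isUnit_det Z).1
      ((hBu.mul ((Matrix.isUnit_iff_isUnit_det c).2 hcdet)).mul hBiu)).ne_zero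
  obtain ⟨p, hp⟩ : ∃ p : Equiv.Perm (Fin m), ∀ b, Z (p b) b ≠ 0 := by
    by_contra hp
    push Not at hp
    refine hdet ?_
    rw [Matrix.det_apply]
    refine Finset.sum_eq_zero fun p _ => ?_
    obtain ⟨b, hb⟩ := hp p
    rw [Finset.prod_eq_zero (f := fun i => Z (p i) i) (Finset.mem_univ b) hb, smul_zero]
  have he : ∀ b, e b = α (e' (p b)) := fun b => hsupp _ _ (hp b)
  -- the rational conjugation
  let Z₀ : Matrix (Fin m) (Fin m) k := Equiv.Perm.permMatrix k p.symm
  have hZ₀ : IsUnit Z₀.det := by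
    rw [Matrix.det_permutation]
    rcases Int.units_eq_one_or (Equiv.Perm.sign p.symm) with h | h <;> simp [h]
  let N : Matrix (Fin m) (Fin m) k := ((B'⁻¹ : (Matrix (Fin m) (Fin m) k)ˣ) : Matrix (Fin m) (Fin m) k) * Z₀ * (B : Matrix (Fin m) (Fin m) k)
  have hN : IsUnit N :=
    ((B'⁻¹).isUnit.mul ((Matrix.isUnit_iff_isUnit_det Z₀).2 hZ₀)).mul B.isUnit
  obtain ⟨g₀, hg₀⟩ := exists_glPt (k := k) (X := 𝟙_ (Over (Spec (CommRingCat.of k)))) (cst _ N) (by
    rw [cst, ← RingHom.map_det]; exact ((Matrix.isUnit_iff_isUnit_det N).1 hN).map _)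
  let φ₀ : σ ≅ τ := ε ≪≫
    { hom := Affine.diagPt ((diagChi (𝟙 _)).comp A.toAddMonoidHom.toMultiplicative)
      inv := Affine.diagPt ((diagChi (𝟙 _)).comp A.symm.toAddMonoidHom.toMultiplicative)
      hom_inv_id := Affine.diagFn_ext fun a => by
        rw [Affine.diagFn_comp, Affine.diagFn_diagPt]
        refine (diagFn_naturality (𝟙 (Red.diag k M)) _ (A.symm a)).trans ?_
        rw [Category.comp_id, Affine.diagFn_diagPt]
        show Affine.diagFn (𝟙 _) (A (A.symm a)) = _
        rw [A.apply_symm_apply]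
      inv_hom_id := Affine.diagFn_ext fun a => by
        rw [Affine.diagFn_comp, Affine.diagFn_diagPt]
        refine (diagFn_naturality (𝟙 (Red.diag k M)) _ (A a)).trans ?_
        rw [Category.comp_id, Affine.diagFn_diagPt]
        show Affine.diagFn (𝟙 _) (A.symm (A a)) = _
        rw [A.symm_apply_apply] } ≪≫ ε'.symm
  refine ⟨g₀, φ₀, ?_⟩
  rw [AGF.conjBy, mul_inv_eq_iff_eq_mul]
  refine glMat_injective ?_
  have hC₀ : glMat (toUnit σ ≫ g₀) = cst σ N := by rw [glMat_comp, hg₀, cst_comp]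
  have hl := hB σ (𝟙 σ)
  have hr := hB' σ φ₀.hom
  rw [Category.id_comp, Category.id_comp] at hl
  have hd : ∀ a, Affine.diagFn (φ₀.hom ≫ ε'.hom) a = Affine.diagFn ε.hom (α a) := fun a => by
    have hh : ∀ h : Red.diag k M ⟶ Red.diag k M, (ε.hom ≫ h ≫ ε'.inv) ≫ ε'.hom = ε.hom ≫ h := fun h => by
      simp
    simp only [φ₀, Iso.trans_hom, Iso.symm_hom]
    rw [hh, Affine.diagFn_comp, Affine.diagFn_diagPt]
    refine (diagFn_naturality (𝟙 (Red.diag k M)) ε.hom (α a)).trans ?_
    rw [Category.comp_id]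
  simp only [hd] at hr
  rw [glMat_mul, glMat_mul, hC₀]
  have hperm : cst σ Z₀ * Matrix.diagonal (fun a => Affine.diagFn ε.hom (e a)) =
      Matrix.diagonal (fun a => Affine.diagFn ε.hom (α (e' a))) * cst σ Z₀ := by
    ext a b
    rw [Matrix.mul_diagonal, Matrix.diagonal_mul, cst_apply]
    by_cases h : p.symm a = b
    · subst h
      rw [mul_comm, he, p.apply_symm_apply]
    · simp [Z₀, Equiv.Perm.permMatrix, PEquiv.toMatrix_apply, h]
  have hB'u : IsUnit (cst σ (B' : Matrix (Fin m) (Fin m) k)) := B'.isUnit.map (Points.baseHom σ).mapMatrix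
  refine hB'u.mul_left_cancel ?_
  have hBN : cst σ (B' : Matrix (Fin m) (Fin m) k) * cst σ N = cst σ Z₀ * cst σ (B : Matrix (Fin m) (Fin m) k) := by
    rw [← cst_mul, ← cst_mul]
    simp only [N, ← _root_.mul_assoc, Units.mul_inv, _root_.one_mul]
  rw [← _root_.mul_assoc, hBN, _root_.mul_assoc, hl, ← _root_.mul_assoc, hperm, ← _root_.mul_assoc, hr, _root_.mul_assoc, _root_.mul_assoc, hBN]

end

end Groth.Agent.Lib.DiagGL
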