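import Mathlib

/-!
# Complete orthogonal families of idempotent matrices over a field are diagonalisable
-/

open Matrix

namespace Groth.Agent.Lib.DiagGL

universe u

theorem exists_diagonalise {K : Type u} [Field K] {G : Type} [Fintype G] [DecidableEq G] {m : ℕ}
    (P : G → Matrix (Fin m) (Fin m) K) (hmul : ∀ g h, P g * P h = if g = h then P g else 0)
    (hsum : ∑ g, P g = 1) :
    ∃ (B : Matrix (Fin m) (Fin m) K) (e : Fin m → G), IsUnit B ∧
      ∀ g, B * P g = diagonal (fun j => if e j = g then (1 : K) else 0) * B := by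
  classical
  let p : G → (Fin m → K) →ₗ[K] (Fin m → K) := fun g => Matrix.toLin' (P g)
  have hp : ∀ g h v, p g (p h v) = if g = h then p g v else 0 := fun g h v => by
    simp only [p, Matrix.toLin'_apply, Matrix.mulVec_mulVec, hmul g h]
    split_ifs <;> simp
  have hv : ∀ v, ∑ g, p g v = v := fun v => by
    simp only [p, Matrix.toLin'_apply, ← Matrix.sum_mulVec, hsum, Matrix.one_mulVec]
  let b := fun g => Module.finBasis K (LinearMap.range (p g))
  let I := Σ g : G, Fin (Module.finrank K (LinearMap.range (p g)))
  let vec : I → (Fin m → K) := fun i => (b i.1 i.2 : Fin m → K)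
  have hfix : ∀ g (i : I), p g (vec i) = if i.1 = g then vec i else 0 := by
    rintro g ⟨h, j⟩
    obtain ⟨v, hv'⟩ := (b h j).2
    simp only [vec]
    rw [← hv', hp]
    by_cases hgh : g = h
    · subst hgh; simp
    · simp [hgh, Ne.symm hgh]
  have hli : LinearIndependent K vec := by
    rw [Fintype.linearIndependent_iff]
    intro c hc i
    have h1 := congrArg (p i.1) hc
    simp only [map_sum, map_smul, map_zero, hfix, smul_ite, smul_zero] at h1
    rw [Fintype.sum_sigma, Finset.sum_eq_single i.1 (fun g _ hg => by simp [hg]) (by simp)] at h1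
    simp only [if_true, vec] at h1
    refine Fintype.linearIndependent_iff.1 (b i.1).linearIndependent (fun j => c ⟨i.1, j⟩) ?_ i.2
    apply Subtype.ext
    simpa using h1
  have hspan : ⊤ ≤ Submodule.span K (Set.range vec) := by
    intro v _
    rw [← hv v]
    refine Submodule.sum_mem _ fun g _ => ?_
    have := congrArg Subtype.val ((b g).sum_repr ⟨p g v, LinearMap.mem_range_self _ _⟩)
    simp only [AddSubmonoidClass.coe_finsetSum, SetLike.val_smul] at this
    rw [← this]
    exact Submodule.sum_mem _ fun j _ => Submodule.smul_mem _ _ (Submodule.subset_span ⟨⟨g, j⟩, rfl⟩)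
  let β : Module.Basis I K (Fin m → K) := Module.Basis.mk hli hspan
  let ε : I ≃ Fin m := β.indexEquiv (Pi.basisFun K (Fin m))
  let β' := β.reindex ε
  let B := β'.toMatrix (Pi.basisFun K (Fin m))
  let A := (Pi.basisFun K (Fin m)).toMatrix β'
  have hBA : B * A = 1 := Module.Basis.toMatrix_mul_toMatrix_flip _ _
  have hAB : A * B = 1 := Module.Basis.toMatrix_mul_toMatrix_flip _ _
  refine ⟨B, fun j => (ε.symm j).1, ⟨⟨B, A, hBA, hAB⟩, rfl⟩, fun g => ?_⟩
  have hcol : P g * A = A * diagonal (fun j => if (ε.symm j).1 = g then (1 : K) else 0) := by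
    ext i j
    have := congrFun (hfix g (ε.symm j)) i
    simp only [p, Matrix.toLin'_apply, Matrix.mulVec, dotProduct] at this
    rw [Matrix.mul_apply, Matrix.mul_diagonal]
    simp only [A, Module.Basis.toMatrix_apply, Pi.basisFun_repr, β', Module.Basis.reindex_apply, β,
      Module.Basis.mk_apply]
    rw [this]
    split_ifs <;> simp
  calc B * P g = B * (P g * A) * B := by rw [Matrix.mul_assoc, Matrix.mul_assoc, hAB, Matrix.mul_one]
    _ = _ := by rw [hcol, ← Matrix.mul_assoc B, hBA, Matrix.one_mul]

end Groth.Agent.Lib.DiagGL
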