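import Groth.Agent.Lib.DiagGL.Points
import Groth.Agent.Lib.DiagGL.Matrix
import Mathlib.GroupTheory.QuotientGroup.Basic
import Mathlib.GroupTheory.OrderOfElement

/-!
# Finite diagonalisable subgroups of `GL_m` are conjugate to rational ones
-/

set_option autoImplicit false
universe u

open CategoryTheory MonoidalCategory CartesianMonoidalCategory MonObj GrpObj AlgebraicGeometry
open Groth.Agent.Lib.RedPts CoordGrp

namespace Groth.Agent.Lib.DiagGL

attribute [local instance] Points.baseAlgebra

noncomputable section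

variable {K : Type u} [Field K] {M : Type} [AddCommGroup M]

theorem algHomOf_id_bijective :
    Function.Bijective (Points.algHomOf (𝟙 (Red.diag K M))) := by
  have h : ∀ a, Points.algHomOf (𝟙 (Red.diag K M)) a =
      (Scheme.ΓSpecIso (CommRingCat.of (MonoidAlgebra K (Multiplicative M)))).inv a := fun a => by
    change Points.ringHomOf (𝟙 (Spec (CommRingCat.of (MonoidAlgebra K (Multiplicative M))))) a = _
    rw [Points.ringHomOf_apply]
    rfl
  have hb := (Scheme.ΓSpecIso (CommRingCat.of (MonoidAlgebra K (Multiplicative M)))).symm.commRingCatIsoToRingEquiv.bijective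
  exact ⟨fun a b hab => hb.1 (by have := hab; rw [h, h] at this; exact this),
    fun y => (hb.2 y).imp fun a ha => (h a).trans ha⟩

theorem algHomOf_eq_sum [Fintype M] {X : Over (Spec (CommRingCat.of K))} (x : X ⟶ Red.diag K M)
    (q : MonoidAlgebra K (Multiplicative M)) :
    Points.algHomOf x q =
      ∑ g : M, Affine.diagFn x g * Points.baseHom X (q.coeff (Multiplicative.ofAdd g)) := by
  induction q using MonoidAlgebra.induction_linear with
  | zero => simp
  | add p q hp hq =>
    simp [hp, hq, mul_add, Finset.sum_add_distrib]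
  | single a c =>
    classical
    rw [Finset.sum_eq_single a.toAdd]
    · rw [show MonoidAlgebra.single a c = c • MonoidAlgebra.single (Multiplicative.ofAdd a.toAdd) (1 : K)
        from by simp, map_smul, Algebra.smul_def, mul_comm]
      simp [Affine.diagFn]
      rfl
    · intro b _ hb
      simp [show a ≠ Multiplicative.ofAdd b from fun h => hb (by simp [h])]
    · simp

variable {k : Type u} [Field k] (f : Spec (CommRingCat.of K) ⟶ Spec (CommRingCat.of k)) {m : ℕ}

/-- A natural multiplicative matrix function on a finite diagonalisable group is given by a family of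
orthogonal idempotent matrices. -/
theorem exists_projectors_of_natural [Fintype M] [DecidableEq M]
    (Mu : ∀ (X : Over (Spec (CommRingCat.of K))), (X ⟶ Red.diag K M) → Matrix (Fin m) (Fin m) Γ(X.left, ⊤))
    (hnat : ∀ X (x : X ⟶ Red.diag K M), Mu X x = (Mu _ (𝟙 (Red.diag K M))).map x.left.appTop.hom)
    (hmul : ∀ X (a b : X ⟶ Red.diag K M), Mu X (a * b) = Mu X a * Mu X b)
    (hone : ∀ X, Mu X (1 : X ⟶ Red.diag K M) = 1) :
    ∃ P : M → Matrix (Fin m) (Fin m) K,
      (∀ g h, P g * P h = if g = h then P g else 0) ∧ ∑ g, P g = 1 ∧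
      ∀ (X : Over (Spec (CommRingCat.of K))) (x : X ⟶ Red.diag K M),
        Mu X x = ∑ g, Affine.diagFn x g • (P g).map (Points.baseHom X) := by
  classical
  have hq : ∀ a b, ∃ q, Points.algHomOf (𝟙 (Red.diag K M)) q = Mu _ (𝟙 (Red.diag K M)) a b := fun a b =>
    algHomOf_id_bijective.2 _
  choose q hq using hq
  let P : M → Matrix (Fin m) (Fin m) K := fun g =>
    Matrix.of fun a b => (q a b).coeff (Multiplicative.ofAdd g)
  have key : ∀ (X : Over (Spec (CommRingCat.of K))) (x : X ⟶ Red.diag K M),
      Mu X x = ∑ g, Affine.diagFn x g • (P g).map (Points.baseHom X) := by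
    intro X x
    ext a b
    rw [hnat, Matrix.map_apply, ← hq]
    refine (Points.ringHomOf_comp x.left (𝟙 (Red.diag K M) : Red.diag K M ⟶ Red.diag K M).left _).symm.trans ?_
    refine (congrArg (fun y : X ⟶ Red.diag K M => Points.algHomOf y (q a b)) (Category.comp_id x)).trans ?_
    refine (algHomOf_eq_sum x (q a b)).trans ?_
    simp [P, Matrix.sum_apply]
  refine ⟨P, ?_, ?_, key⟩
  · intro g₀ h₀
    -- two independent points
    let T := Red.diag K (M × M)
    let x : T ⟶ Red.diag K M := Affine.diagPt
      ((diagChi (𝟙 T)).comp (AddMonoidHom.inl M M).toMultiplicative)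
    let y : T ⟶ Red.diag K M := Affine.diagPt
      ((diagChi (𝟙 T)).comp (AddMonoidHom.inr M M).toMultiplicative)
    have hx : ∀ g, Affine.diagFn x g = Affine.diagFn (𝟙 T) (g, 0) := fun g => by simp [x, diagChi]
    have hy : ∀ g, Affine.diagFn y g = Affine.diagFn (𝟙 T) (0, g) := fun g => by simp [y, diagChi]
    have e := hmul T x y
    rw [key, key, key] at e
    ext a b
    have e' := congrFun (congrFun e a) b
    let φe := Points.algHomOf (𝟙 T)
    have e'' : φe (∑ g, MonoidAlgebra.single (Multiplicative.ofAdd (g, g)) (P g a b)) =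
        φe (∑ c, ∑ g, ∑ h, MonoidAlgebra.single (Multiplicative.ofAdd (g, h)) (P g a c * P h c b)) := by
      have hs : ∀ (p : M × M) (r : K), φe (MonoidAlgebra.single (Multiplicative.ofAdd p) r) =
          Affine.diagFn (𝟙 T) p * Points.baseHom T r := fun p r => by
        rw [show MonoidAlgebra.single (Multiplicative.ofAdd p) r =
          r • MonoidAlgebra.single (Multiplicative.ofAdd p) (1 : K) from by simp, map_smul,
          Algebra.smul_def, mul_comm]
        rfl
      simp only [map_sum, hs]
      simp only [Affine.diagFn_mul, hx, hy, ← Affine.diagFn_add, Prod.mk_add_mk, add_zero, zero_add,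
        Matrix.sum_apply, Matrix.smul_apply, Matrix.map_apply, Matrix.mul_apply, smul_eq_mul] at e'
      rw [e']
      refine Finset.sum_congr rfl fun c _ => ?_
      rw [Finset.sum_mul]
      refine Finset.sum_congr rfl fun g _ => ?_
      rw [Finset.mul_sum]
      refine Finset.sum_congr rfl fun h _ => ?_
      rw [map_mul, show ((g, h) : M × M) = (g, 0) + (0, h) by simp, Affine.diagFn_add]
      ring
    have := congrArg (fun p => p.coeff (Multiplicative.ofAdd (g₀, h₀))) (algHomOf_id_bijective.1 e'')
    simp only [MonoidAlgebra.coeff_sum, MonoidAlgebra.coeff_single, Finsupp.finsetSum_apply,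
      Finsupp.single_apply, EmbeddingLike.apply_eq_iff_eq, Prod.mk.injEq, ite_and, Finset.sum_ite_irrel, Finset.sum_const_zero, Finset.sum_ite_eq',
      Finset.mem_univ, if_true] at this
    rw [Matrix.mul_apply, ← this]
    split_ifs with h <;> simp [h]
  · let T := Red.diag K M
    have e := hone T
    rw [key] at e
    simp only [Affine.diagFn_one, one_smul] at e
    have hinj : Function.Injective (Points.baseHom T) := by
      intro a b hab
      have h2 : Points.algHomOf (𝟙 T) (algebraMap K _ a) = Points.algHomOf (𝟙 T) (algebraMap K _ b) := by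
        rw [AlgHom.commutes, AlgHom.commutes]; exact hab
      exact (algebraMap K (MonoidAlgebra K (Multiplicative M))).injective (algHomOf_id_bijective.1 h2)
    refine Matrix.map_injective hinj ?_
    simp only [Matrix.map_one _ (map_zero _) (map_one _)]
    rw [← e]
    ext a b
    simp [Matrix.sum_apply]

/-- A homomorphism from a finite diagonalisable group to `GL_m` is given by a family of orthogonal
idempotent matrices. -/
theorem exists_projectors [Fintype M] [DecidableEq M]
    (i : Red.diag K M ⟶ Red.bc f (GLv k m))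
    (hmul : ∀ (X : Over (Spec (CommRingCat.of K))) (a b : X ⟶ Red.diag K M),
      (a * b) ≫ i = (a ≫ i) * (b ≫ i))
    (hone : ∀ X : Over (Spec (CommRingCat.of K)), (1 : X ⟶ Red.diag K M) ≫ i = 1) :
    ∃ P : M → Matrix (Fin m) (Fin m) K,
      (∀ g h, P g * P h = if g = h then P g else 0) ∧ ∑ g, P g = 1 ∧
      ∀ (X : Over (Spec (CommRingCat.of K))) (x : X ⟶ Red.diag K M),
        bcMat f (x ≫ i) = ∑ g, Affine.diagFn x g • (P g).map (Points.baseHom X) :=
  exists_projectors_of_natural (fun X x => bcMat f (x ≫ i))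
    (fun X x => by rw [Category.id_comp, bcMat_comp]) (fun X a b => by rw [hmul, bcMat_mul])
    fun X => by rw [hone, bcMat_one]

/-- The homomorphism `Spec k[M] ⟶ GL_m` given by a tuple of characters. -/
theorem exists_diagHom [Finite M] (e : Fin m → M) (he : AddSubgroup.closure (Set.range e) = ⊤) :
    ∃ i : Red.diag k M ⟶ GLv k m, IsMonHom i ∧ IsClosedImmersion i.left ∧
      ∀ (X : Over (Spec (CommRingCat.of k))) (x : X ⟶ Red.diag k M),
        glMat (x ≫ i) = Matrix.diagonal fun j => Affine.diagFn x (e j) := by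
  classical
  let A := MonoidAlgebra k (Multiplicative M)
  let D : Matrix (Fin m) (Fin m) A :=
    Matrix.diagonal fun j => MonoidAlgebra.single (Multiplicative.ofAdd (e j)) 1
  have hD : IsUnit D.det := by
    rw [Matrix.det_diagonal]
    exact IsUnit.prod_univ_iff.2 fun j => (Group.isUnit _).map (MonoidAlgebra.of k (Multiplicative M))
  obtain ⟨d, hd⟩ := hD.exists_right_inv
  let ψ := GLn.pt m k D d hd
  let i : Red.diag k M ⟶ GLv k m :=
    Over.homMk (Spec.map (CommRingCat.ofHom ψ.toRingHom)) (by
      change Spec.map _ ≫ Spec.map _ = Spec.map _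
      rw [← Spec.map_comp]
      exact congrArg Spec.map (CommRingCat.hom_ext ψ.comp_algebraMap))
  have hmat : ∀ (X : Over (Spec (CommRingCat.of k))) (x : X ⟶ Red.diag k M),
      glMat (x ≫ i) = Matrix.diagonal fun j => Affine.diagFn x (e j) := by
    intro X x
    ext a b
    refine (Affine.ringHomOf_specMap x.left ψ.toRingHom (GLn.X a b)).trans ?_
    change Points.algHomOf x (ψ (GLn.X a b)) = _
    simp only [ψ, GLn.pt_X, D, Matrix.diagonal_apply]
    split_ifs <;> simp [Affine.diagFn]
  have hsurj : Function.Surjective ψ := by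
    rw [← AlgHom.range_eq_top]
    refine top_le_iff.1 fun p _ => ?_
    induction p using MonoidAlgebra.induction_linear with
    | zero => exact zero_mem _
    | add p q hp hq => exact add_mem (hp trivial) (hq trivial)
    | single a c =>
      rw [show MonoidAlgebra.single a c = c • MonoidAlgebra.of k (Multiplicative M) a from by simp]
      refine Subalgebra.smul_mem _ ?_ c
      have hS : ∀ x ∈ AddSubgroup.closure (Set.range e),
          MonoidAlgebra.of k (Multiplicative M) (Multiplicative.ofAdd x) ∈ ψ.range := by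
        intro x hx
        induction hx using AddSubgroup.closure_induction with
        | mem x hx =>
          obtain ⟨j, rfl⟩ := hx
          exact ⟨GLn.X j j, by simp [ψ, D]⟩
        | zero => rw [ofAdd_zero, map_one]; exact one_mem _
        | add x y _ _ hx hy => rw [ofAdd_add, map_mul]; exact mul_mem hx hy
        | neg x _ hx =>
          have hn : (addOrderOf x - 1) • x = -x := by
            refine eq_neg_of_add_eq_zero_left ?_
            rw [← succ_nsmul, Nat.sub_add_cancel (addOrderOf_pos x), addOrderOf_nsmul_eq_zero]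
          rw [← hn, ofAdd_nsmul, map_pow]
          exact pow_mem hx _
      simpa using hS a.toAdd (he ▸ AddSubgroup.mem_top _)
  refine ⟨i, isMonHom_of_mul i (glMat_injective ?_) (fun T a b => glMat_injective ?_),
    IsClosedImmersion.spec_of_surjective _ hsurj, hmat⟩
  · rw [hmat, glMat_one, ← Matrix.diagonal_one]
    simp only [Affine.diagFn_one]
  · rw [glMat_mul, hmat, hmat, hmat, Matrix.diagonal_mul_diagonal]
    simp only [Affine.diagFn_mul]

theorem baseHom_comp {X Y : Over (Spec (CommRingCat.of K))} (h : X ⟶ Y) (a : K) :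
    h.left.appTop (Points.baseHom Y a) = Points.baseHom X a := by
  simp only [Points.baseHom, ← Over.w h, Scheme.Hom.comp_appTop]
  rfl

theorem closure_eq_top [Fintype M] (j : Red.diag K M ⟶ Red.bc f (GLv k m)) [Mono j.left] (e : Fin m → M)
    (P : M → Matrix (Fin m) (Fin m) K)
    (hkey : ∀ (X : Over (Spec (CommRingCat.of K))) (x : X ⟶ Red.diag K M),
      bcMat f (x ≫ j) = ∑ g, Affine.diagFn x g • (P g).map (Points.baseHom X))
    (hP0 : ∀ g, (∀ a, e a ≠ g) → P g = 0) :
    AddSubgroup.closure (Set.range e) = ⊤ := by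
  classical
  refine top_le_iff.1 fun g _ => ?_
  set H := AddSubgroup.closure (Set.range e)
  let x : Red.diag K (M ⧸ H) ⟶ Red.diag K M :=
    Affine.diagPt ((diagChi (𝟙 _)).comp (QuotientAddGroup.mk' H).toMultiplicative)
  have hx : ∀ g, Affine.diagFn x g = Affine.diagFn (𝟙 (Red.diag K (M ⧸ H))) (g : M ⧸ H) := fun g => by
    simp [x, diagChi]
  have h1 : x ≫ j = (1 : Red.diag K (M ⧸ H) ⟶ Red.diag K M) ≫ j := by
    refine bcMat_injective ?_
    rw [hkey, hkey]
    refine Finset.sum_congr rfl fun g _ => ?_
    by_cases hg : ∃ a, e a = g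
    · obtain ⟨a, rfl⟩ := hg
      have h0 : ((e a : M) : M ⧸ H) = 0 :=
        (QuotientAddGroup.eq_zero_iff _).2 (AddSubgroup.subset_closure ⟨a, rfl⟩)
      rw [hx, Affine.diagFn_one, h0, Affine.diagFn_zero]
    · push Not at hg
      simp [hP0 g hg]
  have : Mono j := Over.mono_of_mono_left j
  have h2 := congrArg (fun y => Affine.diagFn y g) ((cancel_mono j).1 h1)
  simp only [hx, Affine.diagFn_one] at h2
  have h3 := algHomOf_id_bijective.1 ((h2 : Points.algHomOf (𝟙 (Red.diag K (M ⧸ H))) _ = 1).trans (map_one _).symm)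
  rw [MonoidAlgebra.one_def] at h3
  by_contra hg
  have h4 := congrArg (fun p => p.coeff (Multiplicative.ofAdd (g : M ⧸ H))) h3
  have hne : Multiplicative.ofAdd (g : M ⧸ H) ≠ 1 := fun h =>
    hg ((QuotientAddGroup.eq_zero_iff _).1 (Multiplicative.ofAdd.injective h))
  simp [MonoidAlgebra.coeff_single, hne.symm] at h4

/-- The main statement. -/
theorem exists_descent [Finite M]
    (σ' : Over (Spec (CommRingCat.of K))) [GrpObj σ'] (i' : σ' ⟶ Red.bc f (GLv k m)) [IsMonHom i']
    [Mono i'.left] (hσ' : Red.IsSplitTorusWith M σ') :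
    ∃ (σ : Over (Spec (CommRingCat.of k))) (_ : GrpObj σ) (i : σ ⟶ GLv k m)
      (_ : IsMonHom i), IsClosedImmersion i.left ∧ Red.IsSplitTorusWith M σ ∧
      ∃ (g : 𝟙_ (Over (Spec (CommRingCat.of K))) ⟶ Red.bc f (GLv k m)) (φ : σ' ≅ Red.bc f σ),
        AGF.conjBy g i' = φ.hom ≫ (Over.pullback f).map i := by
  classical
  have : Fintype M := Fintype.ofFinite M
  obtain ⟨E⟩ := hσ'
  let ε : σ' ≅ Red.diag K M := Tori.BaseChange.overIso E ≪≫ dsDiag K M
  have hε : IsMonHom ε.hom :=
    inferInstanceAs (IsMonHom ((Tori.BaseChange.overIso E).hom ≫ (dsDiag K M).hom))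
  have hεinv : IsMonHom ε.inv := inferInstance
  let j := ε.inv ≫ i'
  have : IsMonHom j := inferInstanceAs (IsMonHom (ε.inv ≫ i'))
  obtain ⟨P, hP, hPsum, hkey⟩ := exists_projectors f j
    (fun X a b => MonObj.mul_comp a b j) (fun X => MonObj.one_comp j)
  obtain ⟨B, e, hB, hBP⟩ := exists_diagonalise P hP hPsum
  have hP0 : ∀ g, (∀ a, e a ≠ g) → P g = 0 := fun g hg => by
    refine hB.mul_left_cancel ?_
    rw [hBP]
    simp [hg]
  have : Mono j.left := by
    have : IsIso ε.inv.left := inferInstanceAs (IsIso ((Over.forget _).map ε.inv))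
    change Mono (ε.inv.left ≫ i'.left)
    infer_instance
  have hgen : AddSubgroup.closure (Set.range e) = ⊤ := closure_eq_top f j e P hkey hP0
  obtain ⟨i, hi, hic, himat⟩ := exists_diagHom (k := k) e hgen
  let δ : Red.DS (Spec (CommRingCat.of k)) M ≅ Red.diag k M := dsDiag k M
  refine ⟨Red.diag k M, inferInstance, i, hi, hic, ⟨(Tori.BaseChange.grpIso δ).symm⟩, ?_⟩
  let φ : σ' ≅ Red.bc f (Red.diag k M) := ε ≪≫ diagBC f M
  obtain ⟨g, hg⟩ := exists_bcPt (f := f) (X := 𝟙_ (Over (Spec (CommRingCat.of K))))
    (B.map (Points.baseHom _)) (by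
      rw [← RingHom.mapMatrix_apply, ← RingHom.map_det]
      exact ((Matrix.isUnit_iff_isUnit_det B).1 hB).map _)
  refine ⟨g, φ, ?_⟩
  rw [AGF.conjBy, mul_inv_eq_iff_eq_mul]
  refine bcMat_injective ?_
  have hleft : bcMat f i' = ∑ c, Affine.diagFn ε.hom c • (P c).map (Points.baseHom σ') := by
    rw [← hkey, Iso.hom_inv_id_assoc]
  have hright : bcMat f (φ.hom ≫ (Over.pullback f).map i) =
      Matrix.diagonal fun a => Affine.diagFn ε.hom (e a) := by
    rw [bcMat, BC.down_map, himat]
    exact congrArg Matrix.diagonal (funext fun a => bcFn_diagBC f ε.hom (e a))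
  have hC : bcMat f (toUnit σ' ≫ g) = B.map (Points.baseHom σ') := by
    rw [bcMat_comp, hg]
    ext a b
    exact baseHom_comp _ _
  rw [bcMat_mul, bcMat_mul, hC, hleft, hright, Finset.mul_sum]
  calc ∑ c, B.map (Points.baseHom σ') * Affine.diagFn ε.hom c • (P c).map (Points.baseHom σ')
      = ∑ c, Matrix.diagonal (fun a => if e a = c then Affine.diagFn ε.hom c else 0) *
          B.map (Points.baseHom σ') := by
        refine Finset.sum_congr rfl fun c _ => ?_
        rw [Matrix.mul_smul, ← Matrix.map_mul, hBP c, Matrix.map_mul, Matrix.diagonal_map (map_zero _),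
          ← smul_mul_assoc, ← Matrix.diagonal_smul]
        congr 2
        funext a
        simp [apply_ite (Points.baseHom σ')]
    _ = _ := by
        rw [← Finset.sum_mul]
        congr 1
        ext a b
        rw [Matrix.sum_apply]
        by_cases h : a = b
        · subst h; simp [Finset.sum_ite_eq]
        · simp [Matrix.diagonal_apply_ne _ h]

end

end Groth.Agent.Lib.DiagGL
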